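import Cfsg.Agent.Lib.Co1Golay43.Signs

/-!
# Conway type: the abelian groups over maximal singular subspaces are conjugate

An elementary abelian subgroup of order 32 of `Q` is moved in `C(z)` onto the lifts of `1, 4, 16, 64`
or of `1, 4, 16, 128`; only in the first class is the centralizer abelian.

Owner: helper43.
-/

set_option autoImplicit false
set_option maxRecDepth 100000
set_option linter.unusedSectionVars false

namespace Cfsg.Agent.Lib.Co1NEmb43

open Cfsg.Agent.Lib.Co1Type31 Cfsg.Agent.Lib.Co1Golay43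

/-- the pairs in the third and fourth hyperbolic plane -/
def q3 : List (ℕ × ℕ) :=
  let l := (List.range 16).filter (fun j => qn (16 * j))
  (l.flatMap fun a => l.map fun b => (16 * a, 16 * b))

set_option synthInstance.maxSize 8000 in
set_option synthInstance.maxHeartbeats 400000 in
/-- the third vector is moved to the span of `1, 4, 16` -/
theorem third : ∀ k < 256, qn k = false → bn k 1 = false → bn k 4 = false →
    [0, 1, 4, 5].contains k = false → ∃ p ∈ q3, ∃ q ∈ q3,
      okWord [p, q] = true ∧ prs [p, q] 1 = 1 ∧ prs [p, q] 4 = 4 ∧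
      [16, 17, 20, 21].contains (prs [p, q] k) = true := by
  decide +kernel

set_option synthInstance.maxSize 8000 in
set_option synthInstance.maxHeartbeats 400000 in
/-- the fourth vector lies over `64` or `128` -/
theorem fourth : all8.all (fun k => qn k || bn k 1 || bn k 4 || bn k 16 ||
    [0, 1, 4, 5, 16, 17, 20, 21].contains k || [64, 65, 68, 69, 80, 81, 84, 85].contains k ||
      [128, 129, 132, 133, 144, 145, 148, 149].contains k) = true := by
  decide +kernel

set_option synthInstance.maxSize 8000 in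
set_option synthInstance.maxHeartbeats 400000 in
theorem second : ∀ k < 256, b1 k = false → qn k = false → [0, 1].contains k = false →
    k &&& 252 ≠ 0 ∧ qn (k &&& 252) = false ∧ (k = (k &&& 252) ∨ k = (k &&& 252) ^^^ 1) := by
  decide +kernel

variable {G : Type*} [Group G] [Finite G] {z : G} {Q : Subgroup G} {co : G → ℕ} {ac : G → ℕ → ℕ}

/-- The data of a subgroup of order 32 of `Q`. -/
structure Flat (Q : Subgroup G) (E : Subgroup G) : Prop where
  le : E ≤ Q
  comm : ∀ a ∈ E, ∀ b ∈ E, Commute a b
  sq : ∀ a ∈ E, a * a = 1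
  card : 32 ≤ Nat.card E

/-- The codes of the moved subgroup. -/
def Code (co : G → ℕ) (E : Subgroup G) (c : G) (k : ℕ) : Prop := ∃ r ∈ E, co (c * r * c⁻¹) = k

section codes

variable (h : Frame z Q co ac) {E : Subgroup G} (hE : Flat Q E)
include h hE

theorem code_lt {c : G} (hc : Commute c z) {k : ℕ} (hk : Code co E c k) : k < 256 := by
  obtain ⟨r, hr, rfl⟩ := hk
  exact h.co_lt _ (h.norm c hc r (hE.le hr))

theorem code_qn {c : G} (hc : Commute c z) {k : ℕ} (hk : Code co E c k) : qn k = false := by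
  obtain ⟨r, hr, rfl⟩ := hk
  have e := h.sq _ (h.norm c hc r (hE.le hr))
  rw [show c * r * c⁻¹ * (c * r * c⁻¹) = c * (r * r) * c⁻¹ by group, hE.sq r hr, mul_one, mul_inv_cancel] at e
  cases hb : qn (co (c * r * c⁻¹))
  · rfl
  · rw [hb] at e
    exact absurd e.symm h.es.ne

theorem code_bn {c : G} (hc : Commute c z) {j k : ℕ} (hj : Code co E c j) (hk : Code co E c k) :
    bn j k = false := by
  obtain ⟨r, hr, rfl⟩ := hj
  obtain ⟨s, hs, rfl⟩ := hk
  exact (h.commute_Q (h.norm c hc r (hE.le hr)) (h.norm c hc s (hE.le hs))).1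
    ((hE.comm r hr s hs).map (MulAut.conj c).toMonoidHom)

theorem code_xor {c : G} (hc : Commute c z) {j k : ℕ} (hj : Code co E c j) (hk : Code co E c k) :
    Code co E c (j ^^^ k) := by
  obtain ⟨r, hr, rfl⟩ := hj
  obtain ⟨s, hs, rfl⟩ := hk
  refine ⟨r * s, mul_mem hr hs, ?_⟩
  rw [← h.co_mul _ (h.norm c hc r (hE.le hr)) _ (h.norm c hc s (hE.le hs))]
  congr 1
  group

theorem code_map {c d : G} (hc : Commute c z) (hd : Commute d z) {k : ℕ} (hk : Code co E c k) :
    Code co E (d * c) (ac d k) := by
  obtain ⟨r, hr, rfl⟩ := hk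
  refine ⟨r, hr, ?_⟩
  rw [← h.conj d hd _ (h.norm c hc r (hE.le hr))]
  congr 1
  group

theorem code_new {c : G} (hc : Commute c z) (L : List ℕ) (hL : L.length ≤ 8) :
    ∃ k, Code co E c k ∧ L.contains k = false := by
  classical
  by_contra hn
  push_neg at hn
  have hmem : ∀ r : E, co (c * r * c⁻¹) ∈ L.toFinset := fun r => by
    rw [List.mem_toFinset, ← List.contains_iff_mem]
    exact Bool.of_not_eq_false (hn _ ⟨r, r.2, rfl⟩)
  choose! Rp hRp hRc using fun k (hk : k < 256) => h.co_surj k hk
  have hinj : Function.Injective fun r : E =>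
      ((⟨_, hmem r⟩ : L.toFinset), decide (c * r * c⁻¹ = Rp (co (c * r * c⁻¹)))) := by
    intro a b e
    simp only [Prod.mk.injEq, Subtype.mk.injEq] at e
    obtain ⟨e1, e2⟩ := e
    have ha := h.norm c hc _ (hE.le a.2)
    have hb := h.norm c hc _ (hE.le b.2)
    have hl := h.co_lt _ ha
    refine Subtype.ext (mul_left_cancel (mul_right_cancel (b := c⁻¹) ?_ : c * (a : G) = c * b))
    rcases h.co_eq (hRp _ hl) ha (hRc _ hl) with ea | ea <;>
      rcases h.co_eq (hRp _ hl) hb ((hRc _ hl).trans e1) with eb | eb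
    · exact ea.trans eb.symm
    · exfalso
      rw [decide_eq_true ea, eq_comm, decide_eq_true_eq, ← e1, eb] at e2
      exact h.es.ne (mul_eq_left.1 e2)
    · exfalso
      rw [← e1, decide_eq_true eb, decide_eq_true_eq] at e2
      exact h.es.ne (mul_eq_left.1 (ea.symm.trans e2))
    · exact ea.trans eb.symm
  have hle := Nat.card_le_card_of_injective _ hinj
  rw [Nat.card_prod, Nat.card_eq_finsetCard, Nat.card_eq_fintype_card (α := Bool), Fintype.card_bool] at hle
  have := L.toFinset_card_le
  have := hE.card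
  omega

/-- An elementary abelian subgroup of order 32 is moved to one of the two standard ones. -/
theorem exists_class : ∃ c, Commute c z ∧
    ((∀ r ∈ E, inW (co (c * r * c⁻¹)) = true) ∨ ∀ r ∈ E, inW (coS co (c * r * c⁻¹)) = true) := by
  -- the first vector
  obtain ⟨k, hk, hkn⟩ := code_new h hE (Commute.one_left z) [0] (by simp)
  obtain ⟨c1, hc1, e1⟩ := h.exists_to_one (code_lt h hE (Commute.one_left z) hk)
    (by rintro rfl; simp at hkn) (code_qn h hE (Commute.one_left z) hk)
  have h1 : Code co E c1 1 := by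
    have := code_map h hE (Commute.one_left z) hc1 hk
    rwa [mul_one, e1] at this
  -- the second vector
  obtain ⟨k, hk, hkn⟩ := code_new h hE hc1 [0, 1] (by simp)
  have hkl := code_lt h hE hc1 hk
  have hb1 : b1 k = false := by rw [← b1_eq hkl]; exact code_bn h hE hc1 hk h1
  obtain ⟨ha0, haq, hcase⟩ := second k hkl hb1 (code_qn h hE hc1 hk) hkn
  obtain ⟨p, hp, hpe⟩ := sg_trans _ (mem_w6 hkl) ha0 haq
  obtain ⟨d, hd, hdk⟩ := h.exists_pr hp
  have hc2 : Commute (d * c1) z := hd.mul_left hc1
  have h21 : Code co E (d * c1) 1 := by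
    have := code_map h hE hc1 hd h1
    rwa [hdk 1 (by norm_num), pr_one hp] at this
  have h24 : Code co E (d * c1) 4 := by
    have hm : Code co E c1 (k &&& 252) := by
      rcases hcase with e | e
      · rwa [← e]
      · have := code_xor h hE hc1 hk h1
        have e' : k ^^^ 1 = k &&& 252 := by
          conv_lhs => rw [e]
          rw [Nat.xor_assoc, Nat.xor_self, Nat.xor_zero]
        rwa [e'] at this
    have := code_map h hE hc1 hd hm
    rwa [hdk _ (code_lt h hE hc1 hm), hpe] at this
  set c2 := d * c1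
  -- the third vector
  obtain ⟨k, hk, hkn⟩ := code_new h hE hc2 [0, 1, 4, 5] (by simp)
  have hkl := code_lt h hE hc2 hk
  obtain ⟨p, -, q, -, hok, f1, f4, f16⟩ := third k hkl (code_qn h hE hc2 hk) (code_bn h hE hc2 hk h21)
    (code_bn h hE hc2 hk h24) hkn
  obtain ⟨d3, hd3, hd3k⟩ := h.exists_prs hok
  have hc3 : Commute (d3 * c2) z := hd3.mul_left hc2
  have h31 : Code co E (d3 * c2) 1 := by
    have := code_map h hE hc2 hd3 h21
    rwa [hd3k 1 (by norm_num), f1] at this
  have h34 : Code co E (d3 * c2) 4 := by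
    have := code_map h hE hc2 hd3 h24
    rwa [hd3k 4 (by norm_num), f4] at this
  have h316 : Code co E (d3 * c2) 16 := by
    have hv := code_map h hE hc2 hd3 hk
    rw [hd3k k hkl] at hv
    simp only [List.contains_iff_mem, List.mem_cons, List.not_mem_nil, or_false] at f16
    rcases f16 with e | e | e | e <;> rw [e] at hv
    · exact hv
    · exact code_xor h hE hc3 hv h31
    · exact code_xor h hE hc3 hv h34
    · exact code_xor h hE hc3 (code_xor h hE hc3 hv h31) h34
  set c3 := d3 * c2
  -- the fourth vector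
  obtain ⟨k, hk, hkn⟩ := code_new h hE hc3 [0, 1, 4, 5, 16, 17, 20, 21] (by simp)
  have hkl := code_lt h hE hc3 hk
  have hx : ∀ {j i : ℕ}, Code co E c3 j → Code co E c3 i → Code co E c3 (j ^^^ i) :=
    fun hj hi => code_xor h hE hc3 hj hi
  have h4 : Code co E c3 64 ∨ Code co E c3 128 := by
    have key := List.all_eq_true.1 fourth k (mem_all8.2 hkl)
    rw [code_qn h hE hc3 hk, code_bn h hE hc3 hk h31, code_bn h hE hc3 hk h34,
      code_bn h hE hc3 hk h316, hkn] at key
    simp only [Bool.false_or, Bool.or_eq_true] at key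
    rcases key with hm | hm <;>
      simp only [List.contains_iff_mem, List.mem_cons, List.not_mem_nil, or_false] at hm
    · left
      rcases hm with rfl | rfl | rfl | rfl | rfl | rfl | rfl | rfl
      exacts [hk, hx hk h31, hx hk h34, hx (hx hk h31) h34, hx hk h316, hx (hx hk h31) h316,
        hx (hx hk h34) h316, hx (hx (hx hk h31) h34) h316]
    · right
      rcases hm with rfl | rfl | rfl | rfl | rfl | rfl | rfl | rfl
      exacts [hk, hx hk h31, hx hk h34, hx (hx hk h31) h34, hx hk h316, hx (hx hk h31) h316,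
        hx (hx hk h34) h316, hx (hx (hx hk h31) h34) h316]
  refine ⟨c3, hc3, ?_⟩
  rcases h4 with h4 | h4
  · refine Or.inl fun r hr => ?_
    have hr' : Code co E c3 (co (c3 * r * c3⁻¹)) := ⟨r, hr, rfl⟩
    refine (inW_iff (code_lt h hE hc3 hr')).2 fun w hw => ?_
    simp only [wB, List.mem_cons, List.not_mem_nil, or_false] at hw
    rcases hw with rfl | rfl | rfl | rfl
    exacts [code_bn h hE hc3 hr' h31, code_bn h hE hc3 hr' h34, code_bn h hE hc3 hr' h316,
      code_bn h hE hc3 hr' h4]
  · refine Or.inr fun r hr => ?_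
    have hr' : Code co E c3 (co (c3 * r * c3⁻¹)) := ⟨r, hr, rfl⟩
    have hl := code_lt h hE hc3 hr'
    refine (inW_iff (sw_spec _ hl).1).2 fun w hw => ?_
    obtain ⟨s1, s4, s16, s64, s128⟩ := sw_fixed
    simp only [wB, List.mem_cons, List.not_mem_nil, or_false] at hw
    show bn (sw (co (c3 * r * c3⁻¹))) w = false
    rcases hw with rfl | rfl | rfl | rfl
    · rw [← s1, bn_sw hl (by norm_num)]; exact code_bn h hE hc3 hr' h31
    · rw [← s4, bn_sw hl (by norm_num)]; exact code_bn h hE hc3 hr' h34
    · rw [← s16, bn_sw hl (by norm_num)]; exact code_bn h hE hc3 hr' h316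
    · rw [← s128, bn_sw hl (by norm_num)]; exact code_bn h hE hc3 hr' h4

end codes

variable {x n m : G} (C : Cfg z Q co ac x n m)

/-- An elementary abelian group of order `2^11` meeting `Q` in 32 elements is conjugate to `A`. -/
theorem exists_conj_AG {A E : Subgroup G} (hE : Flat Q E) (hEA : E ≤ A)
    (hab : ∀ a ∈ A, ∀ b ∈ A, Commute a b) (hA : 2 ^ 11 ≤ Nat.card A) :
    ∃ c, Commute c z ∧ A.map (MulAut.conj c).toMonoidHom = AG C.duo.fr := by
  have hkey : ∀ {co' : G → ℕ} {ac' : G → ℕ → ℕ} (h' : Frame z Q co' ac') {c : G}, Commute c z →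
      (∀ r ∈ E, inW (co' (c * r * c⁻¹)) = true) → A.map (MulAut.conj c).toMonoidHom = AG h' := by
    intro co' ac' h' c hc hin
    have he : E.map (MulAut.conj c).toMonoidHom = EG h' := by
      refine Subgroup.eq_of_le_of_card_ge ?_ ?_
      · rintro _ ⟨r, hr, rfl⟩
        exact ⟨h'.norm c hc r (hE.le hr), hin r hr⟩
      · rw [Subgroup.card_map_of_injective (MulAut.conj c).injective]
        exact (EG_card_le h').trans hE.card
    refine Subgroup.eq_of_le_of_card_ge ?_ ?_
    · rintro _ ⟨a, ha, rfl⟩
      refine Subgroup.mem_centralizer_iff.2 fun s hs => ?_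
      rw [SetLike.mem_coe, ← he] at hs
      obtain ⟨r, hr, rfl⟩ := hs
      exact ((hab r (hEA hr) a ha).map (MulAut.conj c).toMonoidHom).eq
    · rw [Subgroup.card_map_of_injective (MulAut.conj c).injective]
      exact (AG_card_le h').trans hA
  obtain ⟨c, hc, h1 | h1⟩ := exists_class C.duo.fr hE
  · exact ⟨c, hc, hkey C.duo.fr hc h1⟩
  · exfalso
    refine other_not_abelian C fun a ha b hb => ?_
    have e := hkey (duo_sw C.duo).fr hc h1
    rw [← e] at ha hb
    obtain ⟨a', ha', rfl⟩ := ha
    obtain ⟨b', hb', rfl⟩ := hb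
    exact (hab a' ha' b' hb').map (MulAut.conj c).toMonoidHom

end Cfsg.Agent.Lib.Co1NEmb43
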