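import Cfsg.Agent.Lib.Co1NEmb43.Class
import Cfsg.Agent.Lib.Co1Golay43.Extend
import Cfsg.Agent.Lib.Co1Uniq31.Setting
import Cfsg.Agent.Lib.Co1Type31.Setup

/-!
# Uniqueness of Co1: the frame stabiliser embeds, compatibly with the centraliser

The standard frame group of Co1 is conjugate in the centraliser of `z1` to the group `A` of a
configuration, so the iso of two configurations transports.

Owner: helper43.
-/

set_option autoImplicit false
set_option maxRecDepth 100000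
set_option linter.unusedSectionVars false
set_option linter.style.haveILetI false

namespace Cfsg.Agent.Lib.Co1NEmb43

open Cfsg Cfsg.Agent.Lib.Co1Type31 Cfsg.Agent.Lib.Co1Golay43
open Cfsg.Agent.Lib.Leech Cfsg.Agent.Lib.LeechMod2 Cfsg.Agent.Lib.Co1Cent Cfsg.Agent.Lib.Co2Cent
open Cfsg.Agent.Lib.Co1Uniq31 (N1 NEmb Glue)

instance finite_Co1 : Finite Spor.Co1 := Quotient.finite _

/-- `Q1` in Co1. -/
noncomputable abbrev Q1' : Subgroup Spor.Co1 := Q1.map C1.subtype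

theorem q1_le {q : C1} (hq : q ∈ Q1) : (q : Spor.Co1) ∈ N1 := by
  have hq' : q ∈ psi.range := ker_rho1 ▸ hq
  obtain ⟨k, rfl⟩ := hq'
  obtain ⟨p, rfl⟩ := kerMap_bijective.2 k
  rw [psi_kerMap]
  exact ⟨kerElt0 (kerData_mk p.1.2 p.2.2),
    axis_monomial (kerData_mk p.1.2 p.2.2).mem (kerData_mk p.1.2 p.2.2).2.1, rfl⟩

theorem qq_coe (t : {s : Finset GolayPt // Off s}) :
    ((qq t : C1) : Spor.Co1) = LeechMod2.Frame.bar (flip t.1 t.2.1) := by
  rw [qq, psi_kerMap, coe_pi]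
  exact congrArg _ (ker0_one t.2)

theorem N1_le : N1 ≤ Subgroup.normalizer (LeechMod2.Frame.diagBar : Set Spor.Co1) := by
  rintro _ ⟨g, hg, rfl⟩
  refine Subgroup.mem_normalizer_iff.2 fun x => ⟨?_, fun hx => ?_⟩
  · rintro ⟨d, hd, rfl⟩
    exact ⟨g * d * g⁻¹, LeechMod2.Frame.cross_conj_diag hg hd, by simp⟩
  · obtain ⟨d, hd, e⟩ := hx
    refine ⟨g⁻¹ * d * g⁻¹⁻¹, LeechMod2.Frame.cross_conj_diag (inv_mem hg) hd, ?_⟩
    simp only [map_mul, map_inv, e]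
    group

theorem card_N1 : Nat.card N1 = 501397585920 := by
  have e : (Subgroup.center Co0).relIndex crossGroup = Nat.card N1 := by
    rw [N1, ← Subgroup.relIndex_ker, LeechMod2.Frame.ker_bar]
  have e2 := Subgroup.relIndex_mul_relIndex ⊥ (Subgroup.center Co0) crossGroup bot_le
    (LeechMod2.Frame.center_le_diag.trans LeechMod2.Frame.diag_le_cross)
  rw [Subgroup.relIndex_bot_left, Subgroup.relIndex_bot_left, card_crossGroup, card_center, e] at e2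
  omega

theorem z1_mem_N1 : z1 ∈ N1 :=
  ⟨t0, LeechMod2.Frame.diag_le_cross (LeechMod2.Frame.flip_mem_diag _ off_compl.1), rfl⟩

/-- The 32 sign changes in `Q1`. -/
theorem exists_flat : ∃ E : Subgroup Spor.Co1, Flat Q1' E ∧ E ≤ LeechMod2.Frame.diagBar := by
  refine ⟨Q1' ⊓ LeechMod2.Frame.diagBar, ⟨inf_le_left,
    fun a ha b hb => LeechMod2.Frame.diagBar_comm ha.2 hb.2,
    fun a ha => LeechMod2.Frame.diagBar_elem ha.2, ?_⟩, inf_le_right⟩
  have hmem : ∀ t, ((qq t : C1) : Spor.Co1) ∈ Q1' ⊓ LeechMod2.Frame.diagBar := fun t =>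
    ⟨⟨qq t, qq_mem t, rfl⟩, by rw [qq_coe]; exact ⟨_, LeechMod2.Frame.flip_mem_diag _ t.2.1, rfl⟩⟩
  refine card_off.symm.le.trans (Nat.card_le_card_of_injective
    (fun t => (⟨_, hmem t⟩ : ↥(Q1' ⊓ LeechMod2.Frame.diagBar))) fun a b e => ?_)
  have e' : qq a = qq b := Subtype.ext (congrArg Subtype.val e : _)
  exact (Prod.ext_iff.1 (kerMap_bijective.1 (psi_injective e'))).2

/-- A configuration in Co1 at `z1` and a conjugation moving the frame group to its normaliser. -/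
theorem exists_std : ∃ (co : Spor.Co1 → ℕ) (ac : Spor.Co1 → ℕ → ℕ) (x n m : Spor.Co1)
    (C : Cfg z1 Q1' co ac x n m) (B : Base C) (c : Spor.Co1),
    (∀ s < 2048, (B.O s ↔ zmask0.testBit s = true)) ∧ Commute c z1 ∧
      N1.map (MulAut.conj c).toMonoidHom = NA C.duo.fr := by
  obtain ⟨co0, ac0, hfr⟩ := exists_frame z1 orderOf_z1 _ rfl Q1 genFitting_eq extraspecial_Q1 card_Q1
    quotEquiv
  obtain ⟨g, hq, hgQ, hne⟩ := exists_conj
  obtain ⟨x, n, hd⟩ := hfr.exists_duo ⟨g, ⟨_, hgQ, rfl⟩, hne⟩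
  obtain ⟨co, ac, m, C⟩ := exists_cfg hd
  obtain ⟨B, hB⟩ := Co1Golay43.exists_true C
  obtain ⟨E, hE, hEA⟩ := exists_flat
  obtain ⟨c, hc, hmap⟩ := exists_conj_AG C hE hEA
    (fun a ha b hb => LeechMod2.Frame.diagBar_comm ha hb)
    (le_of_eq (LeechMod2.Frame.card_diagBar.trans (by norm_num)).symm)
  refine ⟨co, ac, x, n, m, C, B, c, hB, hc, Subgroup.eq_of_le_of_card_ge ?_ ?_⟩
  · rintro _ ⟨g, hg, rfl⟩
    refine Subgroup.mem_normalizer_iff.2 fun y => ?_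
    rw [← hmap]
    have hn := Subgroup.mem_normalizer_iff.1 (N1_le hg) (c⁻¹ * y * c)
    simp only [Subgroup.mem_map_equiv, MulAut.conj_symm_apply]
    show _ ↔ c⁻¹ * (c * g * c⁻¹ * y * (c * g * c⁻¹)⁻¹) * c ∈ LeechMod2.Frame.diagBar
    rw [show c⁻¹ * (c * g * c⁻¹ * y * (c * g * c⁻¹)⁻¹) * c = g * (c⁻¹ * y * c) * g⁻¹ by group]
    exact hn
  · obtain ⟨-, -, hcard, -⟩ := exists_cosets C
    rw [B.card_NA, show Nat.card ↥(NA C.duo.fr ⊓ Subgroup.centralizer ({z1} : Set Spor.Co1)) = 660602880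
      from hcard, Subgroup.card_map_of_injective (MulAut.conj c).injective, card_N1]

/-- Node A (and the glue): the frame stabiliser and the centraliser of the model map compatibly into
a group of Conway type. -/
theorem exists_glue {G : Type*} [Group G] [Finite G] (z : G) (hz : orderOf z = 2)
    (Q : Subgroup (Subgroup.centralizer ({z} : Set G))) [Q.Normal]
    (hF : Cfsg.generalizedFittingSubgroup (Subgroup.centralizer ({z} : Set G)) = Q)
    (hQ : Cfsg.IsExtraspecial 2 Q) (hcard : Nat.card Q = 2 ^ 9)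
    (e : (Subgroup.centralizer ({z} : Set G)) ⧸ Q ≃* Cfsg.Omega (ZMod 2) (Cfsg.quadFormPlus 4 (ZMod 2)))
    (hnwc : ∃ g : G, (∃ hq : g * z * g⁻¹ ∈ Subgroup.centralizer ({z} : Set G),
      (⟨g * z * g⁻¹, hq⟩ : Subgroup.centralizer ({z} : Set G)) ∈ Q) ∧ g * z * g⁻¹ ≠ z) :
    ∃ (ιN : N1 →* G) (ιC : C1 →* G),
      NEmb z (Q.map (Subgroup.centralizer ({z} : Set G)).subtype) ιN ∧ Glue z ιN ιC := by
  obtain ⟨co, ac, x, n, m, C, B, c, hB, hc, hN⟩ := exists_std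
  obtain ⟨co0, ac0, hfr⟩ := exists_frame z hz _ rfl Q hF hQ hcard e
  obtain ⟨g, ⟨hq, hgQ⟩, hne⟩ := hnwc
  obtain ⟨x', n', hd⟩ := hfr.exists_duo ⟨g, ⟨_, hgQ, rfl⟩, hne⟩
  obtain ⟨co', ac', m', C'⟩ := exists_cfg hd
  obtain ⟨B', hB'⟩ := Co1Golay43.exists_true C'
  obtain ⟨f, hf, hfQ, ψ, hψz, hψ⟩ := B.exists_extension B' hB hB'
  let A : Algn B B' := ⟨f, hf, hfQ⟩
  have hcN : ∀ g : N1, c * g * c⁻¹ ∈ NA C.duo.fr := fun g => hN ▸ ⟨g, g.2, rfl⟩
  have hcC : ∀ g : C1, c * g * c⁻¹ ∈ C1 := fun g =>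
    Subgroup.mem_centralizer_singleton_iff.2
      ((hc.mul_left (Subgroup.mem_centralizer_singleton_iff.1 g.2)).mul_left hc.inv_left).eq
  let ιN : N1 →* G := MonoidHom.mk' (fun g => (f ⟨_, hcN g⟩ : G)) fun g k => by
    rw [← Subgroup.coe_mul, ← map_mul]
    exact congrArg (fun a => (f a : G)) (Subtype.ext (conj_mul ..).symm)
  let ιC : C1 →* G := MonoidHom.mk' (fun g => (ψ ⟨_, hcC g⟩ : G)) fun g k => by
    rw [← Subgroup.coe_mul, ← map_mul]
    exact congrArg (fun a => (ψ a : G)) (Subtype.ext (conj_mul ..).symm)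
  have hinjN : Function.Injective ιN := fun g k e => by
    have e1 := congrArg Subtype.val (f.injective (Subtype.ext e : f ⟨_, hcN g⟩ = f ⟨_, hcN k⟩))
    exact Subtype.ext (mul_left_cancel (mul_right_cancel e1))
  have hiz : ∀ h : z1 ∈ N1, ιN ⟨z1, h⟩ = z := fun h => by
    show (f ⟨c * z1 * c⁻¹, _⟩ : G) = z
    rw [← A.F_eq, show c * z1 * c⁻¹ = z1 from mul_inv_eq_iff_eq_mul.2 hc.eq]
    exact A.F_z
  refine ⟨ιN, ιC, ⟨hinjN, hiz, fun q hq => q1_le hq, fun g => ⟨fun hg => ?_, ?_⟩⟩,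
    ⟨hinjN, fun g k e => ?_, fun g hN' hC' => ?_, ?_, fun h => ?_⟩⟩
  · obtain ⟨p, hp, rfl⟩ := A.F_surjQ hg
    obtain ⟨q, hq, hqp⟩ : c⁻¹ * p * c ∈ Q1' := by
      have := C.duo.fr.norm c⁻¹ hc.inv_left p hp
      rwa [inv_inv] at this
    have hqp' : c * (q : Spor.Co1) * c⁻¹ = p := by
      rw [show (q : Spor.Co1) = c⁻¹ * p * c from hqp]; group
    refine ⟨q, q1_le hq, hq, ?_⟩
    show (f ⟨c * (q : Spor.Co1) * c⁻¹, _⟩ : G) = A.F p
    rw [← A.F_eq, hqp']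
  · rintro ⟨q, h, hq, rfl⟩
    show (f ⟨c * (q : Spor.Co1) * c⁻¹, _⟩ : G) ∈ _
    rw [← A.F_eq]
    exact (A.F_Q (C.duo.fr.norm c hc _ ⟨q, hq, rfl⟩)).1
  · have e1 := congrArg Subtype.val (ψ.injective (Subtype.ext e : ψ ⟨_, hcC g⟩ = ψ ⟨_, hcC k⟩))
    exact Subtype.ext (mul_left_cancel (mul_right_cancel e1))
  · exact (hψ _ (hcN ⟨g, hN'⟩) (hcC ⟨g, hC'⟩)).symm
  · refine le_antisymm ?_ fun g hg => ?_
    · rintro _ ⟨g, rfl⟩
      exact (ψ ⟨_, hcC g⟩).2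
    · obtain ⟨⟨p, hp⟩, e⟩ := ψ.surjective ⟨g, hg⟩
      have hp' : c⁻¹ * p * c ∈ C1 := Subgroup.mem_centralizer_singleton_iff.2
        ((hc.inv_left.mul_left (Subgroup.mem_centralizer_singleton_iff.1 hp)).mul_left hc).eq
      refine ⟨⟨_, hp'⟩, ?_⟩
      show (ψ ⟨c * (c⁻¹ * p * c) * c⁻¹, _⟩ : G) = g
      simp only [show c * (c⁻¹ * p * c) * c⁻¹ = p by group]
      exact congrArg Subtype.val e
  · show (ψ ⟨c * z1 * c⁻¹, _⟩ : G) = z
    simp only [show c * z1 * c⁻¹ = z1 from mul_inv_eq_iff_eq_mul.2 hc.eq]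
    exact hψz

end Cfsg.Agent.Lib.Co1NEmb43
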